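import Mathlib
import Groth.Prelude
universe u
open TensorProduct WithConv

namespace Groth.Agent.Helper5.Commutator
variable {k : Type u} [CommRing k] {A : Type u} [CommRing A] [HopfAlgebra k A]
variable {R : Type u} [CommRing R] [Algebra k R]

/-- an algebra map as an element of the convolution ring -/
noncomputable def pt (f : A →ₐ[k] R) : WithConv (A →ₗ[k] R) := toConv f.toLinearMap

@[simp] lemma pt_apply (f : A →ₐ[k] R) (a : A) : pt f a = f a := rfl

lemma conv3_eq (f g h : A →ₐ[k] R) (a : A) :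
    Dyn.conv3 k A f g h a = ((pt f * pt g) * pt h) a := by
  unfold Dyn.conv3
  simp only [AlgHom.comp_apply, Bialgebra.comulAlgHom_apply, LinearMap.convMul_apply]
  set 𝓡 := Coalgebra.Repr.arbitrary k a
  rw [← 𝓡.eq]
  simp only [map_sum, Algebra.TensorProduct.map_tmul, Bialgebra.comulAlgHom_apply, AlgHom.id_apply,
    Algebra.TensorProduct.lmul'_apply_tmul, AlgHom.comp_apply, TensorProduct.map_tmul,
    LinearMap.mul'_apply]
  rfl


/-- an ε-derivation as an element of the convolution ring -/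
noncomputable def dW (D : LieHopf.Lie k A) : WithConv (A →ₗ[k] R) :=
  toConv (Algebra.linearMap k R ∘ₗ LieHopf.dlin D)

@[simp] lemma dW_apply (D : LieHopf.Lie k A) (a : A) :
    (dW D : WithConv (A →ₗ[k] R)) a = algebraMap k R (LieHopf.dlin D a) := rfl

lemma pt_ptOfLie (D : LieHopf.Lie k A) (t : R) (ht : t * t = 0) :
    pt (LieHopf.ptOfLie D R t ht) = 1 + t • (dW D : WithConv (A →ₗ[k] R)) := by
  ext a
  change algebraMap k R (Bialgebra.counitAlgHom k A a) + algebraMap k R (LieHopf.dlin D a) * t = _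
  simp [mul_comm]

lemma pt_mul_antipode (f : A →ₐ[k] R) :
    pt f * pt (f.comp (HopfAlgebra.antipodeAlgHom k A)) = 1 := by
  ext a
  rw [(Coalgebra.Repr.arbitrary k a).convMul_apply]
  simp only [pt_apply, AlgHom.comp_apply, HopfAlgebra.antipodeAlgHom_apply, ← map_mul, ← map_sum,
    HopfAlgebra.sum_mul_antipode_eq_algebraMap_counit, AlgHom.commutes, LinearMap.convOne_apply]

lemma pt_antipode_mul (f : A →ₐ[k] R) :
    pt (f.comp (HopfAlgebra.antipodeAlgHom k A)) * pt f = 1 := by
  ext a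
  rw [(Coalgebra.Repr.arbitrary k a).convMul_apply]
  simp only [pt_apply, AlgHom.comp_apply, HopfAlgebra.antipodeAlgHom_apply, ← map_mul, ← map_sum,
    HopfAlgebra.sum_antipode_mul_eq_algebraMap_counit, AlgHom.commutes, LinearMap.convOne_apply]

lemma smul_sq_zero (t : R) (ht : t * t = 0) (d : WithConv (A →ₗ[k] R)) :
    (t • d) * (t • d) = 0 := by
  rw [smul_mul_smul_comm, ht, zero_smul]

lemma pt_inv (D : LieHopf.Lie k A) (t : R) (ht : t * t = 0) :
    pt ((LieHopf.ptOfLie D R t ht).comp (HopfAlgebra.antipodeAlgHom k A)) =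
      1 - t • (dW D : WithConv (A →ₗ[k] R)) := by
  have h1 := pt_antipode_mul (LieHopf.ptOfLie D R t ht)
  have h2 : pt (LieHopf.ptOfLie D R t ht) * (1 - t • (dW D : WithConv (A →ₗ[k] R))) = 1 := by
    rw [pt_ptOfLie]
    have := smul_sq_zero t ht (dW D : WithConv (A →ₗ[k] R))
    generalize t • (dW D : WithConv (A →ₗ[k] R)) = X at this ⊢
    calc (1 + X) * (1 - X) = 1 - X * X := by noncomm_ring
      _ = 1 := by rw [this, sub_zero]
  exact left_inv_eq_right_inv h1 h2

lemma ring_comm {W : Type*} [Ring W] (X Y : W) (hX : X * X = 0) (hY : Y * Y = 0)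
    (hXYX : X * Y * X = 0) (hYXY : Y * X * Y = 0) :
    (1 + X) * (1 + Y) * (1 - X) * (1 - Y) = 1 + X * Y - Y * X := by
  have e : (1 + X) * (1 + Y) * (1 - X) * (1 - Y) =
      1 + X * Y - Y * X - X * X - X * Y * X - Y * Y - X * (Y * Y) + (X * X) * Y + Y * X * Y
        + (X * Y * X) * Y := by noncomm_ring
  rw [e, hX, hY, hXYX, hYXY]
  simp


lemma dW_mul_apply (D E : LieHopf.Lie k A) (a : A) :
((dW D : WithConv (A →ₗ[k] R)) * dW E : WithConv (A →ₗ[k] R)) a =
      algebraMap k R (LieHopf.conv (LieHopf.dlin D) (LieHopf.dlin E) a) := by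
  rw [(Coalgebra.Repr.arbitrary k a).convMul_apply]
  unfold LieHopf.conv
  simp only [LinearMap.comp_apply]
  rw [← (Coalgebra.Repr.arbitrary k a).eq]
  simp only [map_sum, TensorProduct.map_tmul, LinearMap.mul'_apply, dW_apply, map_mul]

theorem main (D E : LieHopf.Lie k A) (t t' : R) (ht : t * t = 0) (ht' : t' * t' = 0) (a : A) :
    Dyn.conv3 k A
        (Dyn.conv3 k A (LieHopf.ptOfLie D R t ht) (LieHopf.ptOfLie E R t' ht')
          ((LieHopf.ptOfLie D R t ht).comp (HopfAlgebra.antipodeAlgHom k A)))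
        ((LieHopf.ptOfLie E R t' ht').comp (HopfAlgebra.antipodeAlgHom k A))
        ((Algebra.ofId k R).comp (Bialgebra.counitAlgHom k A)) a =
      algebraMap k R (Bialgebra.counitAlgHom k A a) + algebraMap k R (LieHopf.bracketLin D E a) * (t * t') := by
  rw [conv3_eq]
  have hinner : pt (Dyn.conv3 k A (LieHopf.ptOfLie D R t ht) (LieHopf.ptOfLie E R t' ht')
      ((LieHopf.ptOfLie D R t ht).comp (HopfAlgebra.antipodeAlgHom k A))) =
      (pt (LieHopf.ptOfLie D R t ht) * pt (LieHopf.ptOfLie E R t' ht')) *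
        pt ((LieHopf.ptOfLie D R t ht).comp (HopfAlgebra.antipodeAlgHom k A)) := by
    ext b
    rw [pt_apply, conv3_eq]
  have hunit : pt ((Algebra.ofId k R).comp (Bialgebra.counitAlgHom k A)) =
      (1 : WithConv (A →ₗ[k] R)) := by
    ext b
    rfl
  rw [hinner, hunit, mul_one, pt_ptOfLie, pt_ptOfLie, pt_inv, pt_inv]
  have hX := smul_sq_zero t ht (dW D : WithConv (A →ₗ[k] R))
  have hY := smul_sq_zero t' ht' (dW E : WithConv (A →ₗ[k] R))
  have hXYX : (t • (dW D : WithConv (A →ₗ[k] R))) * (t' • dW E) * (t • dW D) = 0 := by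
    rw [smul_mul_smul_comm, smul_mul_smul_comm]
    have : t * t' * t = 0 := by rw [mul_comm t t', mul_assoc, ht, mul_zero]
    rw [this, zero_smul]
  have hYXY : (t' • (dW E : WithConv (A →ₗ[k] R))) * (t • dW D) * (t' • dW E) = 0 := by
    rw [smul_mul_smul_comm, smul_mul_smul_comm]
    have : t' * t * t' = 0 := by rw [mul_comm t' t, mul_assoc, ht', mul_zero]
    rw [this, zero_smul]
  rw [ring_comm _ _ hX hY hXYX hYXY, smul_mul_smul_comm, smul_mul_smul_comm]
  change algebraMap k R (Coalgebra.counit a) + (t * t') * ((dW D : WithConv (A →ₗ[k] R)) * dW E : WithConv (A →ₗ[k] R)) a -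
    (t' * t) * ((dW E : WithConv (A →ₗ[k] R)) * dW D : WithConv (A →ₗ[k] R)) a = _
  rw [dW_mul_apply, dW_mul_apply]
  have hb : LieHopf.bracketLin D E a =
      LieHopf.conv (LieHopf.dlin D) (LieHopf.dlin E) a - LieHopf.conv (LieHopf.dlin E) (LieHopf.dlin D) a := rfl
  rw [hb, map_sub, Bialgebra.counitAlgHom_apply]
  ring

end Groth.Agent.Helper5.Commutator
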