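import Mathlib
import Groth.Prelude
universe u
open TensorProduct

namespace Groth.Agent.Helper5.Conv3

variable {k : Type u} [CommRing k] {A : Type u} [CommRing A] [HopfAlgebra k A]

lemma sum_smul_counit {a : A} {ι : Type*} (𝓡 : Coalgebra.Repr k a ι) :
    ∑ x ∈ 𝓡.index, Coalgebra.counit (R := k) (𝓡.right x) • 𝓡.left x = a := by
  have := congrArg (TensorProduct.lift ((LinearMap.lsmul k A).flip)) (Coalgebra.sum_tmul_counit_eq (R := k) 𝓡)
  simpa only [map_sum, TensorProduct.lift.tmul, LinearMap.flip_apply, LinearMap.lsmul_apply, one_smul]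
    using this

/-- conv3 with the unit point in the third slot is the plain convolution. -/
lemma conv3_unit {C : Type u} [CommRing C] [Algebra k C] (f g : A →ₐ[k] C) (a : A) :
    Dyn.conv3 k A f g ((Algebra.ofId k C).comp (Bialgebra.counitAlgHom k A)) a =
      Algebra.TensorProduct.lmul' (S := C) k (Algebra.TensorProduct.map f g (Coalgebra.comul (R := k) a)) := by
  set 𝓡 := Coalgebra.Repr.arbitrary k a with h𝓡
  unfold Dyn.conv3
  simp only [AlgHom.comp_apply, Bialgebra.comulAlgHom_apply]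
  conv_lhs => rw [← 𝓡.eq]
  simp only [map_sum, Algebra.TensorProduct.map_tmul, Bialgebra.comulAlgHom_apply, AlgHom.id_apply,
    Algebra.TensorProduct.lmul'_apply_tmul, AlgHom.comp_apply, Algebra.ofId_apply,
    Bialgebra.counitAlgHom_apply]
  have key : ∀ x : A, Algebra.TensorProduct.lmul' (S := C) k (Algebra.TensorProduct.map f g (Coalgebra.comul (R := k) x)) =
      ((Algebra.TensorProduct.lmul' (S := C) k).toLinearMap ∘ₗ (Algebra.TensorProduct.map f g).toLinearMap ∘ₗ
        (Coalgebra.comul (R := k) (A := A))) x := fun x => rfl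
  simp only [key]
  conv_rhs => rw [← sum_smul_counit 𝓡]
  rw [map_sum]
  refine Finset.sum_congr rfl fun i _ => ?_
  rw [map_smul, Algebra.smul_def, mul_comm]


theorem main (φ ψ : LieHopf.LiePts k A) (a : A) :
    TrivSqZeroExt.snd (Dyn.conv3 k A φ.1 ψ.1 ((Algebra.ofId k (DualNumber k)).comp (Bialgebra.counitAlgHom k A)) a) =
      LieHopf.LiePts.tangent k A φ a + LieHopf.LiePts.tangent k A ψ a := by
  rw [conv3_unit]
  set 𝓡 := Coalgebra.Repr.arbitrary k a with h𝓡
  rw [← 𝓡.eq]
  simp only [map_sum, Algebra.TensorProduct.map_tmul, Algebra.TensorProduct.lmul'_apply_tmul]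
  rw [TrivSqZeroExt.snd_sum]
  simp only [TrivSqZeroExt.snd_mul, φ.2, ψ.2, Bialgebra.counitAlgHom_apply]
  rw [Finset.sum_add_distrib, add_comm]
  -- linear maps sφ, sψ
  let sφ : A →ₗ[k] k := (TrivSqZeroExt.sndHom k k) ∘ₗ φ.1.toLinearMap
  let sψ : A →ₗ[k] k := (TrivSqZeroExt.sndHom k k) ∘ₗ ψ.1.toLinearMap
  have e1 : LieHopf.LiePts.tangent k A φ a = sφ a := rfl
  have e2 : LieHopf.LiePts.tangent k A ψ a = sψ a := rfl
  rw [e1, e2]
  congr 1
  · conv_rhs => rw [← sum_smul_counit 𝓡]
    rw [map_sum]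
    refine Finset.sum_congr rfl fun i _ => ?_
    rw [map_smul, op_smul_eq_mul, smul_eq_mul, mul_comm]
    rfl
  · conv_rhs => rw [← Coalgebra.sum_counit_smul 𝓡]
    rw [map_sum]
    refine Finset.sum_congr rfl fun i _ => ?_
    rw [map_smul]
    rfl

end Groth.Agent.Helper5.Conv3
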